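import Mathlib
import Cfsg.Agent.Lib.Helper34.SnB.QSDefs

/-!
S2986, sub-package [QS-NEQ] (helper76): if `E` has a `p`-element outside `O_p(E)` then
`A_E ≠ A_F`.
-/

set_option autoImplicit false

namespace Cfsg.Agent.Lib.Helper76.SnB

open Cfsg Cfsg.Agent.Lib.Helper41.SnB Cfsg.Agent.Lib.Helper34.SnB

universe u

/-- The subgroup `{[a, t] | a ∈ A}` for an abelian `A` normalized by `t`. -/
def commSub {G : Type u} [Group G] (A : Subgroup G) (t : G)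
    (hab : ∀ a ∈ A, ∀ b ∈ A, a * b = b * a)
    (hn : ∀ a ∈ A, t * a * t⁻¹ ∈ A) : Subgroup G where
  carrier := {y | ∃ a ∈ A, y = a * t * a⁻¹ * t⁻¹}
  one_mem' := ⟨1, A.one_mem, by simp⟩
  mul_mem' := by
    rintro x y ⟨a, ha, rfl⟩ ⟨b, hb, rfl⟩
    refine ⟨a * b, A.mul_mem ha hb, ?_⟩
    have ha' : t * a⁻¹ * t⁻¹ ∈ A := hn _ (A.inv_mem ha)
    have hb' : t * b⁻¹ * t⁻¹ ∈ A := hn _ (A.inv_mem hb)
    have h1 : (t * a⁻¹ * t⁻¹) * b = b * (t * a⁻¹ * t⁻¹) := hab _ ha' _ hb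
    have h2 : (t * a⁻¹ * t⁻¹) * (t * b⁻¹ * t⁻¹) = (t * b⁻¹ * t⁻¹) * (t * a⁻¹ * t⁻¹) :=
      hab _ ha' _ hb'
    calc a * t * a⁻¹ * t⁻¹ * (b * t * b⁻¹ * t⁻¹)
        = a * ((t * a⁻¹ * t⁻¹) * b) * (t * b⁻¹ * t⁻¹) := by group
      _ = a * (b * (t * a⁻¹ * t⁻¹)) * (t * b⁻¹ * t⁻¹) := by rw [h1]
      _ = a * b * ((t * a⁻¹ * t⁻¹) * (t * b⁻¹ * t⁻¹)) := by group
      _ = a * b * ((t * b⁻¹ * t⁻¹) * (t * a⁻¹ * t⁻¹)) := by rw [h2]
      _ = a * b * t * (a * b)⁻¹ * t⁻¹ := by group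
  inv_mem' := by
    rintro x ⟨a, ha, rfl⟩
    refine ⟨a⁻¹, A.inv_mem ha, ?_⟩
    have ha' : t * a * t⁻¹ ∈ A := hn _ ha
    have h1 : (t * a * t⁻¹) * a⁻¹ = a⁻¹ * (t * a * t⁻¹) := hab _ ha' _ (A.inv_mem ha)
    calc (a * t * a⁻¹ * t⁻¹)⁻¹ = (t * a * t⁻¹) * a⁻¹ := by group
      _ = a⁻¹ * (t * a * t⁻¹) := h1
      _ = a⁻¹ * t * a⁻¹⁻¹ * t⁻¹ := by group

theorem pkgNeq : PkgNeq.{u} := by
  intro G _ _ p _ E F sE sF fE fF hC hEF hFE t htE htQ htp hA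
  have hEn : E ≤ Subgroup.normalizer (E : Set G) := Subgroup.le_normalizer
  have hEnF : E ≤ Subgroup.normalizer (F : Set G) := by
    intro e he
    rw [Subgroup.mem_normalizer_iff]
    intro h
    constructor
    · intro hh; exact hEF e he h hh
    · intro hh
      have := hEF e⁻¹ (E.inv_mem he) _ hh
      simpa [mul_assoc] using this
  have hFnE : F ≤ Subgroup.normalizer (E : Set G) := by
    intro e he
    rw [Subgroup.mem_normalizer_iff]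
    intro h
    constructor
    · intro hh; exact hFE e he h hh
    · intro hh
      have := hFE e⁻¹ (F.inv_mem he) _ hh
      simpa [mul_assoc] using this
  -- `A` is abelian, a nontrivial `p`-group, normalized by `t`
  have hab : ∀ a ∈ Ab p E, ∀ b ∈ Ab p E, a * b = b * a := fun a ha b hb =>
    fE.WcQ a (fE.AW ha) b (fE.WQ (fE.AW hb))
  have hn : ∀ a ∈ Ab p E, t * a * t⁻¹ ∈ Ab p E := fun a ha => fE.nA t (hEn htE) a ha
  have hAp : IsPGroup p ↥(Ab p E) := fE.Qp.to_le (fE.AW.trans fE.WQ)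
  have hAne : Ab p E ≠ ⊥ := fun h => fE.AZ (h ▸ bot_le)
  have hdvd : p ∣ Nat.card ↥(Ab p E) := by
    rcases hAp.card_eq_or_dvd with h | h
    · exact absurd ((Subgroup.card_eq_one).mp h) hAne
    · exact h
  -- the action of `⟨t⟩` on `A`
  have hzn : ∀ s ∈ Subgroup.zpowers t, ∀ a ∈ Ab p E, s * a * s⁻¹ ∈ Ab p E := fun s hs a ha =>
    fE.nA s (hEn ((Subgroup.zpowers_le.mpr htE) hs)) a ha
  let act : MulAction ↥(Subgroup.zpowers t) ↥(Ab p E) :=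
    { smul := fun s a => ⟨(s : G) * a * (s : G)⁻¹, hzn s.1 s.2 a.1 a.2⟩
      one_smul := fun a => Subtype.ext (by
        show ((1 : ↥(Subgroup.zpowers t)) : G) * a * ((1 : ↥(Subgroup.zpowers t)) : G)⁻¹ = a
        simp)
      mul_smul := fun s s' a => Subtype.ext (by
        show ((s * s' : ↥(Subgroup.zpowers t)) : G) * a * ((s * s' : ↥(Subgroup.zpowers t)) : G)⁻¹
          = (s : G) * ((s' : G) * a * (s' : G)⁻¹) * (s : G)⁻¹
        simp [mul_assoc]) }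
  have hzp : IsPGroup p ↥(Subgroup.zpowers t) := by
    obtain ⟨k, hk⟩ := htp
    rintro ⟨g, hg⟩
    obtain ⟨n, rfl⟩ := Subgroup.mem_zpowers_iff.mp hg
    refine ⟨k, Subtype.ext ?_⟩
    show (t ^ n) ^ (p ^ k) = 1
    rw [← zpow_natCast, ← zpow_mul, mul_comm, zpow_mul, zpow_natCast, hk, one_zpow]
  have h1fix : (1 : ↥(Ab p E)) ∈ MulAction.fixedPoints ↥(Subgroup.zpowers t) ↥(Ab p E) := by
    intro s
    apply Subtype.ext
    show (s : G) * ((1 : ↥(Ab p E)) : G) * (s : G)⁻¹ = ((1 : ↥(Ab p E)) : G)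
    simp
  obtain ⟨b, hbfix, hb1⟩ :=
    hzp.exists_fixed_point_of_prime_dvd_card_of_fixed_point _ hdvd h1fix
  have hbt : t * (b : G) * t⁻¹ = b := by
    have := hbfix ⟨t, Subgroup.mem_zpowers t⟩
    exact congrArg Subtype.val this
  -- the subgroup `Y = [A, t]`
  have hYA : commSub (Ab p E) t hab hn ≤ Ab p E := by
    rintro y ⟨a, ha, rfl⟩
    have := (Ab p E).mul_mem ha (hn _ ((Ab p E).inv_mem ha))
    simpa [mul_assoc] using this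
  have hYne : commSub (Ab p E) t hab hn ≠ Ab p E := by
    intro hY
    let f : ↥(Ab p E) → ↥(Ab p E) := fun a =>
      ⟨(a : G) * t * (a : G)⁻¹ * t⁻¹, hYA ⟨a, a.2, rfl⟩⟩
    have hsurj : Function.Surjective f := by
      intro y
      have hy : (y : G) ∈ commSub (Ab p E) t hab hn := by rw [hY]; exact y.2
      obtain ⟨a, ha, hya⟩ := hy
      exact ⟨⟨a, ha⟩, Subtype.ext hya.symm⟩
    have hinj : Function.Injective f := Finite.injective_iff_surjective.mpr hsurj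
    have hfb : f b = f 1 := by
      apply Subtype.ext
      show (b : G) * t * (b : G)⁻¹ * t⁻¹ = ((1 : ↥(Ab p E)) : G) * t * ((1 : ↥(Ab p E)) : G)⁻¹ * t⁻¹
      have h1 : t * (b : G)⁻¹ * t⁻¹ = (b : G)⁻¹ := by
        calc t * (b : G)⁻¹ * t⁻¹ = (t * (b : G) * t⁻¹)⁻¹ := by group
          _ = (b : G)⁻¹ := by rw [hbt]
      calc (b : G) * t * (b : G)⁻¹ * t⁻¹ = (b : G) * (t * (b : G)⁻¹ * t⁻¹) := by group
        _ = (b : G) * (b : G)⁻¹ := by rw [h1]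
        _ = ((1 : ↥(Ab p E)) : G) * t * ((1 : ↥(Ab p E)) : G)⁻¹ * t⁻¹ := by simp
    exact hb1 (hinj hfb).symm
  -- `Y` is `F`-invariant
  have hYF : Nz F (commSub (Ab p E) t hab hn) := by
    intro f hf y hy
    obtain ⟨a, ha, rfl⟩ := hy
    have ha' : f * a * f⁻¹ ∈ Ab p E := fE.nA f (hFnE hf) a ha
    obtain ⟨c, hcP, hct⟩ : ∃ c ∈ pCore p G, f * t * f⁻¹ = c * t := by
      refine ⟨f * t * f⁻¹ * t⁻¹, ?_, by group⟩
      have h2 := (pCore p G).inv_mem (hC t htE f hf)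
      have h3 : (t * f * t⁻¹ * f⁻¹)⁻¹ = f * t * f⁻¹ * t⁻¹ := by group
      rwa [h3] at h2
    refine ⟨f * a * f⁻¹, ha', ?_⟩
    have h1 : c * (f * a * f⁻¹) = (f * a * f⁻¹) * c := fE.PA c hcP _ ha'
    have hy' : (f * a * f⁻¹) * t * (f * a * f⁻¹)⁻¹ * t⁻¹ ∈ Ab p E := hYA ⟨_, ha', rfl⟩
    have h2 : c * ((f * a * f⁻¹) * t * (f * a * f⁻¹)⁻¹ * t⁻¹)
        = ((f * a * f⁻¹) * t * (f * a * f⁻¹)⁻¹ * t⁻¹) * c := fE.PA c hcP _ hy'
    calc f * (a * t * a⁻¹ * t⁻¹) * f⁻¹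
        = (f * a * f⁻¹) * (f * t * f⁻¹) * (f * a * f⁻¹)⁻¹ * (f * t * f⁻¹)⁻¹ := by group
      _ = (f * a * f⁻¹) * (c * t) * (f * a * f⁻¹)⁻¹ * (c * t)⁻¹ := by rw [hct]
      _ = ((f * a * f⁻¹) * c) * t * (f * a * f⁻¹)⁻¹ * t⁻¹ * c⁻¹ := by group
      _ = (c * (f * a * f⁻¹)) * t * (f * a * f⁻¹)⁻¹ * t⁻¹ * c⁻¹ := by rw [h1]
      _ = (c * ((f * a * f⁻¹) * t * (f * a * f⁻¹)⁻¹ * t⁻¹)) * c⁻¹ := by group
      _ = (((f * a * f⁻¹) * t * (f * a * f⁻¹)⁻¹ * t⁻¹) * c) * c⁻¹ := by rw [h2]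
      _ = (f * a * f⁻¹) * t * (f * a * f⁻¹)⁻¹ * t⁻¹ := by group
  -- `Y ≤ Z_F`
  have hYZF : commSub (Ab p E) t hab hn ≤ Zb p F := by
    rcases fF.irr _ (hYA.trans hA.le) hYF with h | h
    · exact h
    · exact absurd (h.trans hA.symm) hYne
  -- `B = Z_F ⊓ A ≤ Z_E`
  have hBE : Nz E (Zb p F ⊓ Ab p E) := by
    intro e he x hx
    exact Subgroup.mem_inf.mpr
      ⟨fF.nZ e (hEnF he) x (Subgroup.mem_inf.mp hx).1, fE.nA e (hEn he) x (Subgroup.mem_inf.mp hx).2⟩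
  have hBZE : Zb p F ⊓ Ab p E ≤ Zb p E := by
    rcases fE.irr _ inf_le_right hBE with h | h
    · exact h
    · exfalso
      apply fF.AZ
      rw [← hA, ← h]
      exact inf_le_left
  have key : ∀ a ∈ Ab p E, a * t * a⁻¹ * t⁻¹ ∈ Zb p E := by
    intro a ha
    have hy : a * t * a⁻¹ * t⁻¹ ∈ commSub (Ab p E) t hab hn := ⟨a, ha, rfl⟩
    exact hBZE (Subgroup.mem_inf.mpr ⟨hYZF hy, hYA hy⟩)
  -- faithfulness on `W_E`
  apply htQ
  apply sE.faithW t htE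
  intro w hw
  obtain ⟨a, ha, z, hz, rfl⟩ := fE.WAZ w hw
  have hzt : z * t = t * z := fE.ZC z hz t htE
  have hzt' : z * t⁻¹ = t⁻¹ * z := (Commute.inv_right (show Commute z t from hzt)).eq
  have h1 : t * (a * z) * t⁻¹ * (a * z)⁻¹ = (a * t * a⁻¹ * t⁻¹)⁻¹ := by
    calc t * (a * z) * t⁻¹ * (a * z)⁻¹ = t * a * (z * t⁻¹) * z⁻¹ * a⁻¹ := by group
      _ = t * a * (t⁻¹ * z) * z⁻¹ * a⁻¹ := by rw [hzt']
      _ = (a * t * a⁻¹ * t⁻¹)⁻¹ := by group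
  rw [h1]
  exact (Zb p E).inv_mem (key a ha)

end Cfsg.Agent.Lib.Helper76.SnB
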